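import Groth.Agent.Lib.MaxOpen.UnivOpen
import Groth.Agent.Lib.FppfSource.Scheme
import Groth.Agent.Lib.LocProp.BaseChangeDescent
import Groth.Agent.Lib.LocProp.Descend

/-!
The largest open subscheme on which a homomorphism is flat of finite presentation, smooth or etale is a subgroup.
-/

set_option backward.isDefEq.respectTransparency false

universe u

open CategoryTheory CategoryTheory.Limits MonoidalCategory CartesianMonoidalCategory MonObj GrpObj AlgebraicGeometry

namespace GrothLib.MaxOpen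

variable {S : Scheme.{u}}

/-- A property of morphisms is inherited by translations, by base change from the open. -/
theorem translate_prop (P : MorphismProperty Scheme.{u}) [P.IsStableUnderBaseChange] [P.RespectsIso]
    {A B : Over S} [GrpObj A] (V : B.left.Opens) (hV : P (V.ι ≫ B.hom))
    (m : B ⟶ A) : P (((snd A B).left ⁻¹ᵁ V).ι ≫ (fst A B * (snd A B ≫ m)).left) := by
  have big : IsPullback ((snd A B).left ∣_ V) (((snd A B).left ⁻¹ᵁ V).ι ≫ (fst A B).left) (V.ι ≫ B.hom) A.hom :=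
    (isPullback_morphismRestrict (snd A B).left V).paste_vert (IsPullback.of_hasPullback A.hom B.hom).flip
  have h := P.of_isPullback big hV
  haveI : IsIso (shearBy m).hom.left := inferInstanceAs (IsIso ((Over.forget S).map (shearBy m).hom))
  have hsnd : (shearBy m).hom.left ⁻¹ᵁ ((snd A B).left ⁻¹ᵁ V) = (snd A B).left ⁻¹ᵁ V := by
    rw [← Scheme.Hom.comp_preimage, ← Over.comp_left, shearBy, lift_snd]
  have e : ((snd A B).left ⁻¹ᵁ V).ι ≫ (fst A B * (snd A B ≫ m)).left =
      ((A ⊗ B).left.isoOfEq hsnd.symm).hom ≫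
        ((shearBy m).hom.left ∣_ ((snd A B).left ⁻¹ᵁ V)) ≫ ((snd A B).left ⁻¹ᵁ V).ι ≫ (fst A B).left := by
    simp only [morphismRestrict_ι_assoc, Scheme.isoOfEq_hom_ι_assoc, ← Over.comp_left, shearBy, lift_fst]
  rw [e, P.cancel_left_of_respectsIso, P.cancel_left_of_respectsIso]
  exact h

/-- The property holds near every point after one descends it. -/
def Descends (P : MorphismProperty Scheme.{u}) : Prop :=
  ∀ {X Y Y' : Scheme.{u}} (f : X ⟶ Y) [LocallyOfFinitePresentation f] [Flat f] (g : Y' ⟶ Y) [Flat g]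
    (x' : ↑(pullback f g)), (∃ U' : (pullback f g).Opens, x' ∈ U' ∧ P (U'.ι ≫ pullback.snd f g)) →
    ∃ U : X.Opens, pullback.fst f g x' ∈ U ∧ P (U.ι ≫ f)

variable {G H : Over S} [GrpObj G] [GrpObj H] (u : G ⟶ H) [IsMonHom u] (V : G.left.Opens)
  [Flat (V.ι ≫ G.hom)] [LocallyOfFinitePresentation (V.ι ≫ G.hom)]
  [Flat (V.ι ≫ u.left)] [LocallyOfFinitePresentation (V.ι ≫ u.left)]

/-- Near the translates of the open the homomorphism has the property. -/
theorem exists_nhd_translate (P : MorphismProperty Scheme.{u}) [P.IsStableUnderBaseChange]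
    [IsZariskiLocalAtSource P] (hdesc : Descends P)
    (hV : P (V.ι ≫ u.left)) (m : G ⟶ G) (z : ↥(G ⊗ G).left) (h₁ : (fst G G).left z ∈ V)
    (h₂ : (snd G G).left z ∈ V) :
    ∃ W : G.left.Opens, (fst G G * (snd G G ≫ m)).left z ∈ W ∧ P (W.ι ≫ u.left) := by
  let O : (G ⊗ G).left.Opens := (fst G G).left ⁻¹ᵁ V ⊓ (snd G G).left ⁻¹ᵁ V
  let θ := fst G G * (snd G G ≫ m)
  let θH := fst H G * (snd H G ≫ m ≫ u)
  let O' : (H ⊗ G).left.Opens := (snd H G).left ⁻¹ᵁ V
  haveI hθ : Flat (O.ι ≫ θ.left) := by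
    haveI := translate_prop (A := G) @Flat V inferInstance m
    rw [← Scheme.homOfLE_ι _ (inf_le_right : O ≤ (snd G G).left ⁻¹ᵁ V), Category.assoc]
    infer_instance
  haveI hθ' : LocallyOfFinitePresentation (O.ι ≫ θ.left) := by
    haveI := translate_prop (A := G) @LocallyOfFinitePresentation V inferInstance m
    rw [← Scheme.homOfLE_ι _ (inf_le_right : O ≤ (snd G G).left ⁻¹ᵁ V), Category.assoc]
    infer_instance
  haveI : Flat (O'.ι ≫ θH.left) := translate_prop (A := H) @Flat V inferInstance (m ≫ u)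
  haveI : LocallyOfFinitePresentation (O'.ι ≫ θH.left) :=
    translate_prop (A := H) @LocallyOfFinitePresentation V inferInstance (m ≫ u)
  have sq : IsPullback (u ▷ G).left (fst G G).left (fst H G).left u.left :=
    (GrothLib.GrpSchField.isPullback_whiskerRight u G).map (Over.forget S)
  have hr : Set.range (O.ι ≫ (u ▷ G).left) ⊆ Set.range O'.ι := by
    rintro _ ⟨o, rfl⟩
    rw [Scheme.Opens.range_ι]
    change ((u ▷ G) ≫ snd H G).left o.1 ∈ V
    rw [whiskerRight_snd]
    exact o.2.2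
  let l := IsOpenImmersion.lift O'.ι _ hr
  have hl : l ≫ O'.ι = O.ι ≫ (u ▷ G).left := IsOpenImmersion.lift_fac _ _ _
  have sql : IsPullback l (𝟙 _) O'.ι (O.ι ≫ (u ▷ G).left) :=
    IsPullback.of_isLimit' ⟨by rw [hl, Category.id_comp]⟩ (PullbackCone.IsLimit.mk _ (fun s => s.snd)
      (fun s => by rw [← cancel_mono O'.ι, Category.assoc, hl]; exact s.condition.symm)
      (fun s => Category.comp_id _) (fun s w _ h => by rw [← h, Category.comp_id]))
  have hprop : ∀ (Q : MorphismProperty Scheme.{u}) [Q.IsStableUnderBaseChange] [IsZariskiLocalAtSource Q],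
      Q (V.ι ≫ u.left) → Q l := fun Q _ _ hQ => by
    have sq' : IsPullback ((fst G G).left ∣_ V) (((fst G G).left ⁻¹ᵁ V).ι ≫ (u ▷ G).left) (V.ι ≫ u.left)
        (fst H G).left := (isPullback_morphismRestrict (fst G G).left V).paste_vert sq.flip
    have h := Q.of_isPullback sq' hQ
    have h' : Q (O.ι ≫ (u ▷ G).left) := by
      rw [← Scheme.homOfLE_ι _ (inf_le_left : O ≤ (fst G G).left ⁻¹ᵁ V), Category.assoc]
      exact IsZariskiLocalAtSource.comp h _
    exact Q.of_isPullback sql.flip h'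
  haveI : Flat l := hprop @Flat inferInstance
  haveI : LocallyOfFinitePresentation l := hprop @LocallyOfFinitePresentation inferInstance
  have hcomp : (O.ι ≫ θ.left) ≫ u.left = l ≫ O'.ι ≫ θH.left := by
    rw [reassoc_of% hl, Category.assoc, ← Over.comp_left, ← Over.comp_left]
    simp [θ, θH, MonObj.mul_comp, MonObj.comp_mul]
  let W : G.left.Opens := ⟨Set.range (O.ι ≫ θ.left), (O.ι ≫ θ.left).isOpenMap.isOpen_range⟩
  let q := IsOpenImmersion.lift W.ι (O.ι ≫ θ.left) (by rw [Scheme.Opens.range_ι]; exact subset_rfl)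
  have hq : q ≫ W.ι = O.ι ≫ θ.left := IsOpenImmersion.lift_fac _ _ _
  have sqq : IsPullback q (𝟙 _) W.ι (O.ι ≫ θ.left) :=
    IsPullback.of_isLimit' ⟨by rw [hq, Category.id_comp]⟩ (PullbackCone.IsLimit.mk _ (fun s => s.snd)
      (fun s => by rw [← cancel_mono W.ι, Category.assoc, hq]; exact s.condition.symm)
      (fun s => Category.comp_id _) (fun s w _ h => by rw [← h, Category.comp_id]))
  haveI : Flat q := MorphismProperty.of_isPullback sqq.flip hθ
  haveI : LocallyOfFinitePresentation q := MorphismProperty.of_isPullback sqq.flip hθ'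
  haveI : Surjective q := ⟨fun w => by
    obtain ⟨o, ho⟩ := w.2
    refine ⟨o, W.ι.injective ?_⟩
    rw [← Scheme.Hom.comp_apply, hq]
    exact ho⟩
  have he : q ≫ W.ι ≫ u.left = l ≫ O'.ι ≫ θH.left := by rw [reassoc_of% hq, ← hcomp, Category.assoc]
  haveI : Flat (q ≫ W.ι ≫ u.left) := by rw [he]; infer_instance
  haveI : LocallyOfFinitePresentation (q ≫ W.ι ≫ u.left) := by rw [he]; infer_instance
  haveI : Flat (W.ι ≫ u.left) := by
    refine Flat.of_stalkMap _ fun w => ?_
    obtain ⟨o, rfl⟩ := q.surjective w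
    exact GrothLib.LocProp.flat_descends q _ o (Flat.stalkMap q o) (Flat.stalkMap _ o)
  haveI : LocallyOfFinitePresentation (W.ι ≫ u.left) :=
    GrothLib.FppfSource.fppfSourceDescends_lfp q _ inferInstance inferInstance inferInstance inferInstance
  have hw : (u ▷ G) ≫ (shearBy (A := H) (m ≫ u)).hom = (shearBy (A := G) m).hom ≫ (u ▷ G) := by
    ext <;> simp [shearBy, MonObj.comp_mul, MonObj.mul_comp]
  haveI : IsIso (shearBy (A := G) m).hom.left := inferInstanceAs (IsIso ((Over.forget S).map (shearBy m).hom))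
  haveI : IsIso (shearBy (A := H) (m ≫ u)).hom.left :=
    inferInstanceAs (IsIso ((Over.forget S).map (shearBy (m ≫ u)).hom))
  have big : IsPullback (u ▷ G).left θ.left θH.left u.left := by
    have e₁ : (shearBy (A := G) m).hom.left ≫ (fst G G).left = θ.left := by
      rw [← Over.comp_left, shearBy, lift_fst]
    have e₂ : (shearBy (A := H) (m ≫ u)).hom.left ≫ (fst H G).left = θH.left := by
      rw [← Over.comp_left, shearBy, lift_fst]
    have h := (IsPullback.of_vert_isIso ⟨congrArg (fun t => t.left) hw⟩ :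
      IsPullback (u ▷ G).left (shearBy (A := G) m).hom.left (shearBy (A := H) (m ≫ u)).hom.left
        (u ▷ G).left).paste_vert sq
    rwa [e₁, e₂] at h
  let ε : (O : Scheme.{u}) ⟶ pullback (W.ι ≫ u.left) (O'.ι ≫ θH.left) := pullback.lift q l he
  let j : pullback (W.ι ≫ u.left) (O'.ι ≫ θH.left) ⟶ pullback u.left θH.left :=
    pullback.map _ _ _ _ W.ι O'.ι (𝟙 _) (by simp) (by simp)
  haveI : IsOpenImmersion ε := by
    have hej : ε ≫ j = O.ι ≫ big.flip.isoPullback.hom := by
      apply pullback.hom_ext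
      · simp [ε, j, hq]
      · simp [ε, j, hl]
    haveI : IsOpenImmersion (ε ≫ j) := by rw [hej]; infer_instance
    exact IsOpenImmersion.of_comp ε j
  have hU' : ∃ U' : (pullback (W.ι ≫ u.left) (O'.ι ≫ θH.left)).Opens, ε ⟨z, h₁, h₂⟩ ∈ U' ∧
      P (U'.ι ≫ pullback.snd _ _) := by
    refine ⟨ε.opensRange, ⟨_, rfl⟩, ?_⟩
    rw [← ε.isoOpensRange_inv_comp, Category.assoc, P.cancel_left_of_respectsIso,
      show ε ≫ pullback.snd _ _ = l from pullback.lift_snd _ _ _]
    exact hprop P hV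
  obtain ⟨U, hU, hPU⟩ := hdesc (W.ι ≫ u.left) (O'.ι ≫ θH.left) (ε ⟨z, h₁, h₂⟩) hU'
  refine ⟨W.ι ''ᵁ U, ⟨_, hU, ?_⟩, ?_⟩
  · rw [← Scheme.Hom.comp_apply, show ε ≫ pullback.fst _ _ = q from pullback.lift_fst _ _ _]
    exact congrArg (fun k : (O : Scheme.{u}) ⟶ G.left => k ⟨z, h₁, h₂⟩) hq
  · rw [← Scheme.Hom.isoImage_inv_ι, Category.assoc, Category.assoc, P.cancel_left_of_respectsIso]
    exact hPU

omit [Flat (V.ι ≫ u.left)] [LocallyOfFinitePresentation (V.ι ≫ u.left)] in
/-- An open stable under translations by itself is a subgroup. -/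
theorem isSubgroup_of_translate_mem
    (h : ∀ (m : G ⟶ G) (z : ↥(G ⊗ G).left), (fst G G).left z ∈ V → (snd G G).left z ∈ V →
      (fst G G * (snd G G ≫ m)).left z ∈ V) :
    IsOpen (G.hom.base '' (V : Set G.left)) ∧
    (∀ g ∈ V, ∀ p : ↥(𝟙_ (Over S)).left, (𝟙_ (Over S)).hom.base p = G.hom.base g → η[G].left.base p ∈ V) ∧
    (∀ g ∈ V, ι[G].left.base g ∈ V) ∧
    (∀ z : ↥(G ⊗ G).left, (fst G G).left.base z ∈ V → (snd G G).left.base z ∈ V → μ[G].left.base z ∈ V) := by
  have hdiv : ∀ {T : Over S} (x y : T ⟶ G) (t : T.left), x.left t ∈ V → y.left t ∈ V → (x * y⁻¹).left t ∈ V := by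
    intro T x y t hx hy
    have e : lift x y ≫ (fst G G * (snd G G ≫ ι[G])) = x * y⁻¹ := by
      rw [MonObj.comp_mul, lift_fst, lift_snd_assoc, Hom.inv_def]
    rw [← e, Over.comp_left, Scheme.Hom.comp_apply]
    exact h ι[G] _ (by rwa [← Scheme.Hom.comp_apply, ← Over.comp_left, lift_fst])
      (by rwa [← Scheme.Hom.comp_apply, ← Over.comp_left, lift_snd])
  have hone : ∀ g ∈ V, (toUnit G ≫ η[G]).left g ∈ V := fun g hg => by
    have h := hdiv (𝟙 G) (𝟙 G) g hg hg
    rwa [mul_inv_cancel, Hom.one_def] at h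
  refine ⟨?_, fun g hg p hp => ?_, fun g hg => ?_, fun z h₁ h₂ => ?_⟩
  · have h := (V.ι ≫ G.hom).isOpenMap.isOpen_range
    rwa [Scheme.Hom.comp_base, TopCat.coe_comp, Set.range_comp, Scheme.Opens.range_ι] at h
  · have e : p = (toUnit G).left g := by
      have h : (𝟙_ (Over S)).hom ((toUnit G).left g) = G.hom g := by
        rw [← Scheme.Hom.comp_apply, Over.w]
      exact hp.trans h.symm
    rw [e]
    exact hone g hg
  · have h := hdiv (toUnit G ≫ η[G]) (𝟙 G) g (hone g hg) hg
    rwa [← Hom.one_def, _root_.one_mul, Hom.inv_def, Category.id_comp] at h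
  · have h := h (𝟙 G) z h₁ h₂
    rwa [Category.comp_id, Hom.mul_def, lift_fst_snd, Category.id_comp] at h

/-- The largest open on which the property holds is a subgroup. -/
theorem maxOpen_isSubgroup (P : MorphismProperty Scheme.{u}) [P.IsStableUnderBaseChange]
    [IsZariskiLocalAtSource P] (hdesc : Descends P)
    (hV : P (V.ι ≫ u.left)) (hmax : ∀ W : G.left.Opens, P (W.ι ≫ u.left) → W ≤ V) :
    IsOpen (G.hom.base '' (V : Set G.left)) ∧
    (∀ g ∈ V, ∀ p : ↥(𝟙_ (Over S)).left, (𝟙_ (Over S)).hom.base p = G.hom.base g → η[G].left.base p ∈ V) ∧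
    (∀ g ∈ V, ι[G].left.base g ∈ V) ∧
    (∀ z : ↥(G ⊗ G).left, (fst G G).left.base z ∈ V → (snd G G).left.base z ∈ V → μ[G].left.base z ∈ V) :=
  isSubgroup_of_translate_mem V fun m z h₁ h₂ => by
    obtain ⟨W, hz, hW⟩ := exists_nhd_translate u V P hdesc hV m z h₁ h₂
    exact hmax W hW hz

theorem descends_smooth : Descends.{u} @Smooth :=
  fun f _ _ g _ x' h => GrothLib.LocProp.smooth_nhd_of_baseChange f g x' (Flat.stalkMap g _) h

theorem descends_etale : Descends.{u} @Etale :=
  fun f _ _ g _ x' h => GrothLib.LocProp.etale_nhd_of_baseChange f g x' (Flat.stalkMap g _) h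

theorem descends_flat_lfp : Descends.{u} (@Flat ⊓ @LocallyOfFinitePresentation) :=
  fun {X _ _} f _ _ g _ x' _ => ⟨⊤, trivial, inferInstance, inferInstance⟩

end GrothLib.MaxOpen
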