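import Mathlib.AlgebraicGeometry.Morphisms.Flat
import Mathlib.AlgebraicGeometry.Morphisms.UniversallyOpen
import Groth.Agent.Lib.GrpSchField.Shear

/-!
Largest open subschemes of the target over which a morphism has a property local for the fpqc topology.
-/

set_option backward.isDefEq.respectTransparency false

universe u

open CategoryTheory CategoryTheory.Limits MonoidalCategory CartesianMonoidalCategory MonObj GrpObj AlgebraicGeometry

namespace GrothLib.MaxOpen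

variable (P : MorphismProperty Scheme.{u}) [P.IsStableUnderBaseChange] [IsZariskiLocalAtTarget P]
  [P.DescendsAlong (@Flat ⊓ @Surjective ⊓ @QuasiCompact)]

omit [P.IsStableUnderBaseChange] [IsZariskiLocalAtTarget P] [P.DescendsAlong (@Flat ⊓ @Surjective ⊓ @QuasiCompact)] in
theorem isPullback_restrict {X Y X' Y' : Scheme.{u}} {f : X ⟶ Y} {f' : X' ⟶ Y'} {g' : X' ⟶ X} {g : Y' ⟶ Y}
    (sq : IsPullback f' g' g f) (W : Y.Opens) (W' : Y'.Opens) (h : W' ≤ g ⁻¹ᵁ W) :
    ∃ (l : ((f' ⁻¹ᵁ W') : Scheme.{u}) ⟶ (f ⁻¹ᵁ W : Scheme.{u})) (g₀ : (W' : Scheme.{u}) ⟶ W),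
      g₀ ≫ W.ι = W'.ι ≫ g ∧ IsPullback (f' ∣_ W') l g₀ (f ∣_ W) := by
  have big := (isPullback_morphismRestrict f' W').paste_vert sq
  have hr : Set.range (W'.ι ≫ g) ⊆ Set.range W.ι := by
    rintro _ ⟨y, rfl⟩
    rw [Scheme.Opens.range_ι]
    exact h y.2
  have hr' : Set.range ((f' ⁻¹ᵁ W').ι ≫ g') ⊆ Set.range (f ⁻¹ᵁ W).ι := by
    rintro _ ⟨x, rfl⟩
    rw [Scheme.Opens.range_ι]
    change (g' ≫ f) x.1 ∈ W
    rw [← sq.w]
    exact h x.2
  refine ⟨IsOpenImmersion.lift (f ⁻¹ᵁ W).ι _ hr', IsOpenImmersion.lift W.ι _ hr, IsOpenImmersion.lift_fac _ _ _, ?_⟩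
  refine IsPullback.of_bot ?_ ?_ (isPullback_morphismRestrict f W)
  · rw [IsOpenImmersion.lift_fac, IsOpenImmersion.lift_fac]
    exact big
  · rw [← cancel_mono W.ι, Category.assoc, Category.assoc, IsOpenImmersion.lift_fac, morphismRestrict_ι,
      IsOpenImmersion.lift_fac_assoc]
    exact big.w

/-- The largest such open subscheme commutes with flat open base change. -/
theorem le_preimage_of_flat_open {X Y X' Y' : Scheme.{u}} {f : X ⟶ Y} {f' : X' ⟶ Y'} {g' : X' ⟶ X} {g : Y' ⟶ Y}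
    (sq : IsPullback f' g' g f) [Flat g] (hg : IsOpenMap g.base)
    (W : Y.Opens) (hmax : ∀ W₀ : Y.Opens, P (f ∣_ W₀) → W₀ ≤ W) (W₁ : Y'.Opens) (h₁ : P (f' ∣_ W₁)) :
    W₁ ≤ g ⁻¹ᵁ W := by
  let U : Y.Opens := ⟨g.base '' (W₁ : Set Y'), hg _ W₁.isOpen⟩
  suffices h : P (f ∣_ U) by
    intro y hy
    exact hmax U h ⟨y, hy, rfl⟩
  have key : ∀ V : Y.Opens, IsAffineOpen V → V ≤ U → P (f ∣_ V) := by
    intro V hV hVU
    have hex : ∀ v : V, ∃ A : Y'.Opens, IsAffineOpen A ∧ A ≤ W₁ ⊓ g ⁻¹ᵁ V ∧ v.1 ∈ g.base '' (A : Set Y') := by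
      intro v
      obtain ⟨y, hy, hyv⟩ := hVU v.2
      have hy' : y ∈ W₁ ⊓ g ⁻¹ᵁ V := ⟨hy, by change g y ∈ V; rw [hyv]; exact v.2⟩
      obtain ⟨A, hA, hyA, hAle⟩ := exists_isAffineOpen_mem_and_subset hy'
      exact ⟨A, hA, hAle, y, hyA, hyv⟩
    choose A hA hAle hAv using hex
    obtain ⟨t, ht⟩ := hV.isCompact.elim_finite_subcover (fun v : V => g.base '' (A v : Set Y'))
      (fun v => hg _ (A v).isOpen) fun v hv => Set.mem_iUnion.mpr ⟨⟨v, hv⟩, hAv ⟨v, hv⟩⟩
    let W' : Y'.Opens := ⨆ v ∈ t, A v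
    have hW'c : IsCompact (W' : Set Y') := by
      simp only [W', TopologicalSpace.Opens.coe_iSup]
      exact t.isCompact_biUnion fun v _ => (hA v).isCompact
    have hW'le : W' ≤ W₁ ⊓ g ⁻¹ᵁ V := iSup₂_le fun v _ => hAle v
    have h' : P (f' ∣_ W') := by
      obtain ⟨l, g₀, -, sq₀⟩ := isPullback_restrict
        (IsPullback.of_vert_isIso ⟨(Category.comp_id f').trans (Category.id_comp f').symm⟩ :
          IsPullback f' (𝟙 _) (𝟙 _) f') W₁ W'
        (hW'le.trans inf_le_left)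
      exact P.of_isPullback sq₀.flip h₁
    obtain ⟨l, g₀, hg₀, sq₀⟩ := isPullback_restrict sq V W' (hW'le.trans inf_le_right)
    haveI : Flat g₀ := by
      have : Flat (g₀ ≫ V.ι) := by rw [hg₀]; infer_instance
      exact MorphismProperty.of_postcomp @Flat (W' := @IsOpenImmersion) g₀ V.ι inferInstance this
    haveI : Surjective g₀ := ⟨fun v => by
      obtain ⟨w, hw, y, hy, hyv⟩ := Set.mem_iUnion₂.mp (ht v.2)
      have hy' : y ∈ W' := (le_iSup₂_of_le (f := fun v (_ : v ∈ t) => A v) w hw le_rfl) hy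
      refine ⟨⟨y, hy'⟩, V.ι.injective ?_⟩
      rw [← Scheme.Hom.comp_apply, hg₀]
      exact hyv⟩
    haveI : CompactSpace (W' : Scheme.{u}) := isCompact_iff_compactSpace.mp hW'c
    haveI : IsAffine (V : Scheme.{u}) := hV
    haveI : QuasiCompact g₀ := (quasiCompact_iff_compactSpace g₀).mpr inferInstance
    exact MorphismProperty.of_isPullback_of_descendsAlong (Q := @Flat ⊓ @Surjective ⊓ @QuasiCompact) sq₀
      ⟨⟨inferInstance, inferInstance⟩, inferInstance⟩ h'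
  have hcov : TopologicalSpace.IsOpenCover fun V : {V : Y.Opens // IsAffineOpen V ∧ V ≤ U} => U.ι ⁻¹ᵁ V.1 :=
    TopologicalSpace.IsOpenCover.mk (eq_top_iff.mpr fun u _ => by
      obtain ⟨V, hV, huV, hVU⟩ := exists_isAffineOpen_mem_and_subset u.2
      exact TopologicalSpace.Opens.mem_iSup.mpr ⟨⟨V, hV, hVU⟩, huV⟩)
  refine IsZariskiLocalAtTarget.of_iSup_eq_top _ hcov.iSup_eq_top fun V => ?_
  obtain ⟨l, g₀, -, sq₀⟩ := isPullback_restrict (isPullback_morphismRestrict f U) V.1 (U.ι ⁻¹ᵁ V.1) le_rfl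
  exact P.of_isPullback sq₀.flip (key V.1 V.2.1 V.2.2)

/-- The largest such open subscheme commutes with flat open base change. -/
theorem eq_preimage_of_flat_open {X Y X' Y' : Scheme.{u}} {f : X ⟶ Y} {f' : X' ⟶ Y'} {g' : X' ⟶ X} {g : Y' ⟶ Y}
    (sq : IsPullback f' g' g f) [Flat g] (hg : IsOpenMap g.base)
    (W : Y.Opens) (hW : P (f ∣_ W)) (hmax : ∀ W₀ : Y.Opens, P (f ∣_ W₀) → W₀ ≤ W)
    (W₁ : Y'.Opens) (hW₁ : P (f' ∣_ W₁)) (hmax₁ : ∀ W₀ : Y'.Opens, P (f' ∣_ W₀) → W₀ ≤ W₁) :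
    W₁ = g ⁻¹ᵁ W := by
  refine le_antisymm (le_preimage_of_flat_open P sq hg W hmax W₁ hW₁) (hmax₁ _ ?_)
  obtain ⟨l, g₀, -, sq₀⟩ := isPullback_restrict sq W (g ⁻¹ᵁ W) le_rfl
  exact P.of_isPullback sq₀.flip hW

section group

variable {S : Scheme.{u}} {G H : Over S} [GrpObj G] [GrpObj H] (u : G ⟶ H) [IsMonHom u] [Flat G.hom]
  [UniversallyOpen G.hom] (W : H.left.Opens) (hW : P (u.left ∣_ W)) (hmax : ∀ W' : H.left.Opens, P (u.left ∣_ W') → W' ≤ W)

/-- Right translation of the second factor. -/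
noncomputable def shear : H ⊗ G ≅ H ⊗ G where
  hom := lift (fst H G * (snd H G ≫ u)) (snd H G)
  inv := lift (fst H G * (snd H G ≫ u)⁻¹) (snd H G)
  hom_inv_id := by ext <;> simp [MonObj.comp_mul, GrpObj.comp_inv]
  inv_hom_id := by ext <;> simp [MonObj.comp_mul]

/-- Right translation on the source. -/
noncomputable def shear₀ : G ⊗ G ≅ G ⊗ G where
  hom := lift (fst G G * snd G G) (snd G G)
  inv := lift (fst G G * (snd G G)⁻¹) (snd G G)
  hom_inv_id := by ext <;> simp [MonObj.comp_mul, GrpObj.comp_inv]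
  inv_hom_id := by ext <;> simp [MonObj.comp_mul]

include hW hmax in
/-- The largest open is stable under translation. -/
theorem shear_preimage_le (z : ↥(H ⊗ G).left) (hz : (fst H G * (snd H G ≫ u)).left z ∈ W) :
    (fst H G).left z ∈ W := by
  have sq := ((GrothLib.GrpSchField.isPullback_whiskerRight u G).map (Over.forget S))
  have hpb : IsPullback (fst H G).left (snd H G).left H.hom G.hom := IsPullback.of_hasPullback H.hom G.hom
  haveI : Flat (fst H G).left := MorphismProperty.of_isPullback hpb.flip inferInstance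
  haveI : UniversallyOpen (fst H G).left := MorphismProperty.of_isPullback hpb.flip inferInstance
  obtain ⟨l, g₀, -, sq₀⟩ := isPullback_restrict sq W ((fst H G).left ⁻¹ᵁ W) le_rfl
  have h₁ : P ((u ▷ G).left ∣_ ((fst H G).left ⁻¹ᵁ W)) := P.of_isPullback sq₀.flip hW
  have hw : (u ▷ G) ≫ (shear u).hom = (shear₀ (G := G)).hom ≫ (u ▷ G) := by
    ext <;> simp [shear, shear₀, MonObj.comp_mul, MonObj.mul_comp]
  haveI : IsIso (shear₀ (G := G)).hom.left := inferInstanceAs (IsIso ((Over.forget S).map (shear₀ (G := G)).hom))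
  haveI : IsIso (shear u).hom.left := inferInstanceAs (IsIso ((Over.forget S).map (shear u).hom))
  have sq' : IsPullback (u ▷ G).left (shear₀ (G := G)).hom.left (shear u).hom.left (u ▷ G).left :=
    IsPullback.of_vert_isIso ⟨congrArg (fun t => t.left) hw⟩
  obtain ⟨l', g₀', -, sq₀'⟩ := isPullback_restrict sq' ((fst H G).left ⁻¹ᵁ W)
    ((shear u).hom.left ⁻¹ᵁ ((fst H G).left ⁻¹ᵁ W)) le_rfl
  have h₂ := P.of_isPullback sq₀'.flip h₁
  haveI : Flat ((Over.forget S).map (fst H G)) := inferInstanceAs (Flat (fst H G).left)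
  refine le_preimage_of_flat_open P sq (fst H G).left.isOpenMap W hmax _ h₂ ?_
  change ((shear u).hom ≫ fst H G).left z ∈ W
  rw [shear, lift_fst]
  exact hz

include hW hmax in
theorem mem_iff_translate {T : Over S} (x : T ⟶ H) (y : T ⟶ G) (t : T.left) :
    (x * (y ≫ u)).left t ∈ W ↔ x.left t ∈ W := by
  have key : ∀ (x : T ⟶ H) (y : T ⟶ G), (x * (y ≫ u)).left t ∈ W → x.left t ∈ W := fun x y h => by
    have e1 : lift x y ≫ (fst H G * (snd H G ≫ u)) = x * (y ≫ u) := by simp [MonObj.comp_mul]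
    have h' : (fst H G * (snd H G ≫ u)).left ((lift x y).left t) ∈ W := by
      rw [← Scheme.Hom.comp_apply, ← Over.comp_left, e1]; exact h
    have := shear_preimage_le P u W hW hmax ((lift x y).left t) h'
    rwa [← Scheme.Hom.comp_apply, ← Over.comp_left, lift_fst] at this
  refine ⟨key x y, fun h => key (x * (y ≫ u)) y⁻¹ ?_⟩
  simpa [MonObj.comp_mul, GrpObj.inv_comp, _root_.mul_assoc] using h

include hW hmax in
/-- The preimage of the largest open is a subgroup. -/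
theorem preimage_isSubgroup :
    letI V : G.left.Opens := u.left ⁻¹ᵁ W
    IsOpen (G.hom.base '' (V : Set G.left)) ∧
    (∀ g ∈ V, ∀ p : ↥(𝟙_ (Over S)).left, (𝟙_ (Over S)).hom.base p = G.hom.base g → η[G].left.base p ∈ V) ∧
    (∀ g ∈ V, ι[G].left.base g ∈ V) ∧
    (∀ z : ↥(G ⊗ G).left, (fst G G).left.base z ∈ V → (snd G G).left.base z ∈ V → μ[G].left.base z ∈ V) := by
  have key : ∀ {T : Over S} (x y : T ⟶ G) (t : T.left),
      (x * y).left t ∈ u.left ⁻¹ᵁ W ↔ x.left t ∈ u.left ⁻¹ᵁ W := fun {T} x y t => by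
    have := mem_iff_translate P u W hW hmax (x ≫ u) y t
    rw [← MonObj.mul_comp] at this
    exact this
  have hone : ∀ g ∈ u.left ⁻¹ᵁ W, (toUnit G ≫ η[G]).left g ∈ u.left ⁻¹ᵁ W := fun g hg => by
    have h := (key (𝟙 G) (𝟙 G)⁻¹ g).mpr hg
    rwa [mul_inv_cancel, Hom.one_def] at h
  refine ⟨G.hom.isOpenMap _ (u.left ⁻¹ᵁ W).isOpen, fun g hg p hp => ?_, fun g hg => ?_, fun z h₁ _ => ?_⟩
  · have e : p = (toUnit G).left g := by
      have h : (𝟙_ (Over S)).hom ((toUnit G).left g) = G.hom g := by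
        rw [← Scheme.Hom.comp_apply, Over.w]
      exact hp.trans h.symm
    rw [e]
    exact hone g hg
  · have h := (key (toUnit G ≫ η[G]) ι[G] g).mpr (hone g hg)
    rw [← Hom.one_def, _root_.one_mul] at h
    exact h
  · have h := (key (fst G G) (snd G G) z).mpr h₁
    rwa [Hom.mul_def, lift_fst_snd, Category.id_comp] at h

end group

end GrothLib.MaxOpen
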