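import Groth.Agent.Lib.MaxOpen.Basic
import Groth.Agent.Lib.Thickening.Morphisms

/-!
The largest open subscheme on which a homomorphism is universally open is a subgroup.
-/

set_option backward.isDefEq.respectTransparency false

universe u

open CategoryTheory CategoryTheory.Limits MonoidalCategory CartesianMonoidalCategory MonObj GrpObj AlgebraicGeometry

namespace GrothLib.MaxOpen

variable {S : Scheme.{u}}

/-- Right translation by the second factor. -/
noncomputable def shearBy {A B : Over S} [GrpObj A] (m : B ⟶ A) : A ⊗ B ≅ A ⊗ B where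
  hom := lift (fst A B * (snd A B ≫ m)) (snd A B)
  inv := lift (fst A B * (snd A B ≫ m)⁻¹) (snd A B)
  hom_inv_id := by ext <;> simp [MonObj.comp_mul, GrpObj.comp_inv]
  inv_hom_id := by ext <;> simp [MonObj.comp_mul]

/-- Translations by the sections of an open universally open over the base are universally open. -/
theorem universallyOpen_translate {A B : Over S} [GrpObj A] (V : B.left.Opens) [UniversallyOpen (V.ι ≫ B.hom)]
    (m : B ⟶ A) : UniversallyOpen (((snd A B).left ⁻¹ᵁ V).ι ≫ (fst A B * (snd A B ≫ m)).left) := by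
  have big : IsPullback ((snd A B).left ∣_ V) (((snd A B).left ⁻¹ᵁ V).ι ≫ (fst A B).left) (V.ι ≫ B.hom) A.hom :=
    (isPullback_morphismRestrict (snd A B).left V).paste_vert (IsPullback.of_hasPullback A.hom B.hom).flip
  haveI : UniversallyOpen (((snd A B).left ⁻¹ᵁ V).ι ≫ (fst A B).left) :=
    MorphismProperty.of_isPullback big inferInstance
  haveI : IsIso (shearBy m).hom.left := inferInstanceAs (IsIso ((Over.forget S).map (shearBy m).hom))
  have hsnd : (shearBy m).hom.left ⁻¹ᵁ ((snd A B).left ⁻¹ᵁ V) = (snd A B).left ⁻¹ᵁ V := by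
    rw [← Scheme.Hom.comp_preimage, ← Over.comp_left, shearBy, lift_snd]
  have e : ((snd A B).left ⁻¹ᵁ V).ι ≫ (fst A B * (snd A B ≫ m)).left =
      ((A ⊗ B).left.isoOfEq hsnd.symm).hom ≫
        ((shearBy m).hom.left ∣_ ((snd A B).left ⁻¹ᵁ V)) ≫ ((snd A B).left ⁻¹ᵁ V).ι ≫ (fst A B).left := by
    simp only [morphismRestrict_ι_assoc, Scheme.isoOfEq_hom_ι_assoc, ← Over.comp_left, shearBy, lift_fst]
  rw [e]
  infer_instance

variable {G H : Over S} [GrpObj G] [GrpObj H] (u : G ⟶ H) [IsMonHom u]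
  (V : G.left.Opens) [UniversallyOpen (V.ι ≫ G.hom)] (hV : UniversallyOpen (V.ι ≫ u.left))
  (hmax : ∀ W : G.left.Opens, UniversallyOpen (W.ι ≫ u.left) → W ≤ V)

include hV hmax in
/-- Translating the open by its own points stays inside it. -/
theorem translate_mem (m : G ⟶ G) (z : ↥(G ⊗ G).left) (h₁ : (fst G G).left z ∈ V) (h₂ : (snd G G).left z ∈ V) :
    (fst G G * (snd G G ≫ m)).left z ∈ V := by
  let O : (G ⊗ G).left.Opens := (fst G G).left ⁻¹ᵁ V ⊓ (snd G G).left ⁻¹ᵁ V
  let θ := fst G G * (snd G G ≫ m)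
  have := universallyOpen_translate (A := G) V m
  haveI hθ : UniversallyOpen (O.ι ≫ θ.left) := by
    rw [← Scheme.homOfLE_ι _ (inf_le_right : O ≤ (snd G G).left ⁻¹ᵁ V), Category.assoc]
    infer_instance
  have hH := universallyOpen_translate (A := H) V (m ≫ u)
  haveI hu : UniversallyOpen (O.ι ≫ (u ▷ G).left) := by
    have sq : IsPullback (u ▷ G).left (fst G G).left (fst H G).left u.left :=
      (GrothLib.GrpSchField.isPullback_whiskerRight u G).map (Over.forget S)
    have sq' : IsPullback ((fst G G).left ∣_ V) (((fst G G).left ⁻¹ᵁ V).ι ≫ (u ▷ G).left) (V.ι ≫ u.left)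
        (fst H G).left := (isPullback_morphismRestrict (fst G G).left V).paste_vert sq.flip
    haveI : UniversallyOpen (((fst G G).left ⁻¹ᵁ V).ι ≫ (u ▷ G).left) := MorphismProperty.of_isPullback sq' hV
    rw [← Scheme.homOfLE_ι _ (inf_le_left : O ≤ (fst G G).left ⁻¹ᵁ V), Category.assoc]
    infer_instance
  have hr : Set.range (O.ι ≫ (u ▷ G).left) ⊆ Set.range ((snd H G).left ⁻¹ᵁ V).ι := by
    rintro _ ⟨o, rfl⟩
    rw [Scheme.Opens.range_ι]
    change ((u ▷ G) ≫ snd H G).left o.1 ∈ V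
    rw [whiskerRight_snd]
    exact o.2.2
  let l := IsOpenImmersion.lift ((snd H G).left ⁻¹ᵁ V).ι _ hr
  have hl : l ≫ ((snd H G).left ⁻¹ᵁ V).ι = O.ι ≫ (u ▷ G).left := IsOpenImmersion.lift_fac _ _ _
  haveI : UniversallyOpen l := by
    have sql : IsPullback l (𝟙 _) ((snd H G).left ⁻¹ᵁ V).ι (O.ι ≫ (u ▷ G).left) :=
      IsPullback.of_isLimit' ⟨by rw [hl, Category.id_comp]⟩ (PullbackCone.IsLimit.mk _ (fun s => s.snd)
        (fun s => by rw [← cancel_mono ((snd H G).left ⁻¹ᵁ V).ι, Category.assoc, hl]; exact s.condition.symm)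
        (fun s => Category.comp_id _) (fun s w _ h => by rw [← h, Category.comp_id]))
    exact MorphismProperty.of_isPullback sql.flip inferInstance
  have hcomp : (O.ι ≫ θ.left) ≫ u.left = l ≫ ((snd H G).left ⁻¹ᵁ V).ι ≫ (fst H G * (snd H G ≫ m ≫ u)).left := by
    rw [reassoc_of% hl, Category.assoc, ← Over.comp_left, ← Over.comp_left]
    simp [θ, MonObj.mul_comp, MonObj.comp_mul]
  let W : G.left.Opens := ⟨Set.range (O.ι ≫ θ.left), (O.ι ≫ θ.left).isOpenMap.isOpen_range⟩
  let q := IsOpenImmersion.lift W.ι (O.ι ≫ θ.left) (by rw [Scheme.Opens.range_ι]; exact subset_rfl)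
  have hq : q ≫ W.ι = O.ι ≫ θ.left := IsOpenImmersion.lift_fac _ _ _
  haveI : Surjective q := ⟨fun w => by
    obtain ⟨o, ho⟩ := w.2
    refine ⟨o, W.ι.injective ?_⟩
    rw [← Scheme.Hom.comp_apply, hq]
    exact ho⟩
  haveI : UniversallyOpen (q ≫ W.ι ≫ u.left) := by
    rw [reassoc_of% hq, ← Category.assoc, hcomp]
    infer_instance
  have hW : W ≤ V := hmax W (GrothLib.Thickening.universallyOpen_of_comp_surjective q (W.ι ≫ u.left))
  exact hW ⟨⟨z, h₁, h₂⟩, rfl⟩

include hV hmax in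
/-- The largest open on which a homomorphism is universally open is a subgroup. -/
theorem univOpen_isSubgroup :
    IsOpen (G.hom.base '' (V : Set G.left)) ∧
    (∀ g ∈ V, ∀ p : ↥(𝟙_ (Over S)).left, (𝟙_ (Over S)).hom.base p = G.hom.base g → η[G].left.base p ∈ V) ∧
    (∀ g ∈ V, ι[G].left.base g ∈ V) ∧
    (∀ z : ↥(G ⊗ G).left, (fst G G).left.base z ∈ V → (snd G G).left.base z ∈ V → μ[G].left.base z ∈ V) := by
  have hdiv : ∀ {T : Over S} (x y : T ⟶ G) (t : T.left), x.left t ∈ V → y.left t ∈ V → (x * y⁻¹).left t ∈ V := by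
    intro T x y t hx hy
    have e : lift x y ≫ (fst G G * (snd G G ≫ ι[G])) = x * y⁻¹ := by
      rw [MonObj.comp_mul, lift_fst, lift_snd_assoc, Hom.inv_def]
    rw [← e, Over.comp_left, Scheme.Hom.comp_apply]
    exact translate_mem u V hV hmax ι[G] _ (by rwa [← Scheme.Hom.comp_apply, ← Over.comp_left, lift_fst])
      (by rwa [← Scheme.Hom.comp_apply, ← Over.comp_left, lift_snd])
  have hone : ∀ g ∈ V, (toUnit G ≫ η[G]).left g ∈ V := fun g hg => by
    have h := hdiv (𝟙 G) (𝟙 G) g hg hg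
    rwa [mul_inv_cancel, Hom.one_def] at h
  refine ⟨?_, fun g hg p hp => ?_, fun g hg => ?_, fun z h₁ h₂ => ?_⟩
  · have h := (V.ι ≫ G.hom).isOpenMap.isOpen_range
    rwa [Scheme.Hom.comp_base, TopCat.coe_comp, Set.range_comp, Scheme.Opens.range_ι] at h
  · have e : p = (toUnit G).left g := by
      have h : (𝟙_ (Over S)).hom ((toUnit G).left g) = G.hom g := by
        rw [← Scheme.Hom.comp_apply, Over.w]
      exact hp.trans h.symm
    rw [e]
    exact hone g hg
  · have h := hdiv (toUnit G ≫ η[G]) (𝟙 G) g (hone g hg) hg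
    rwa [← Hom.one_def, _root_.one_mul, Hom.inv_def, Category.id_comp] at h
  · have h := translate_mem u V hV hmax (𝟙 G) z h₁ h₂
    rwa [Category.comp_id, Hom.mul_def, lift_fst_snd, Category.id_comp] at h

end GrothLib.MaxOpen
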